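import Cfsg.Agent.Weyl.Roots

/-!
Standard parabolic subgroups of a Weyl group given by a root table: minimal coset and double coset
representatives, and the alternating sum over the subsets of fundamental roots.
-/

set_option autoImplicit false

namespace CfsgLib.ChevSteinberg

open Cfsg.Lie CfsgLib.Weyl

variable {D : ChevalleyDatum} {C : Cert D.rank} {M : CoxeterMatrix (Fin D.rank)} {R : RootTable}

/-- The parabolic subgroup of a set of fundamental reflections. -/
def WJ (M : CoxeterMatrix (Fin D.rank)) (J : Set (Fin D.rank)) : Subgroup M.Group :=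
  Subgroup.closure (M.simple '' J)

/-- No right descent in `J`. -/
def MinR (h : RootGood C M R) (J : Set (Fin D.rank)) (w : M.Group) : Prop :=
  ∀ j ∈ J, PosIdx (h.rootPerm w (h.simpleRoot j))

/-- No left descent in `K` and no right descent in `J`. -/
def DMin (h : RootGood C M R) (K J : Set (Fin D.rank)) (w : M.Group) : Prop :=
  MinR h J w ∧ MinR h K w⁻¹

/-- Every fundamental root is a right descent. -/
def AllDesc (h : RootGood C M R) (w : M.Group) : Prop :=
  ∀ i, ¬ PosIdx (h.rootPerm w (h.simpleRoot i))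

variable (h : RootGood C M R)

theorem simple_mem_WJ {J : Set (Fin D.rank)} {j : Fin D.rank} (hj : j ∈ J) : M.simple j ∈ WJ M J :=
  Subgroup.subset_closure ⟨j, hj, rfl⟩

theorem simple_inv (i : Fin D.rank) : (M.simple i)⁻¹ = M.simple i := by
  rw [← CoxeterMatrix.toCoxeterSystem_simple]
  exact M.toCoxeterSystem.inv_simple i

theorem simple_sq (i : Fin D.rank) : M.simple i * M.simple i = 1 := by
  rw [← CoxeterMatrix.toCoxeterSystem_simple]
  exact M.toCoxeterSystem.simple_mul_simple_self i

theorem closure_simple_induction {J : Set (Fin D.rank)} {p : M.Group → Prop} (h1 : p 1)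
    (hs : ∀ j ∈ J, ∀ u ∈ WJ M J, p u → p (M.simple j * u)) {u : M.Group} (hu : u ∈ WJ M J) : p u := by
  refine Subgroup.closure_induction_left (p := fun g _ => p g) h1 ?_ ?_ hu
  · rintro x ⟨j, hj, rfl⟩ y hy ih
    exact hs j hj y hy ih
  · rintro x ⟨j, hj, rfl⟩ y hy ih
    rw [simple_inv]
    exact hs j hj y hy ih

theorem WJ_univ : WJ M Set.univ = ⊤ := by
  refine (Subgroup.eq_top_iff' _).2 fun w => ?_
  induction w using M.toCoxeterSystem.simple_induction_left with
  | one => exact one_mem _
  | mul_simple_left w i ih =>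
    rw [CoxeterMatrix.toCoxeterSystem_simple]
    exact mul_mem (simple_mem_WJ (Set.mem_univ i)) ih

theorem rep_simple_apply (i : Fin D.rank) (v : Fin D.rank → ℤ) :
    h.good.rep (M.simple i) v = v - v i • (fun k : Fin D.rank => C.a k i) := by
  rw [h.good.rep_simple]
  funext k
  show C.reflFun i v k = _
  simp only [Cert.reflFun, Pi.sub_apply, Pi.smul_apply, smul_eq_mul]
  split
  · next h0 => simp [h0]
  · rfl

include h in
theorem diag_eq_two (i : Fin D.rank) : C.a i i = 2 := by
  have e := h.pair_rep (M.simple i) (Pi.single i 1) (h.simpleRoot i)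
  rw [h.rootPerm_simple_simpleRoot, h.pair_neg, h.pair_simple, h.pair_simple, rep_simple_apply h] at e
  simp at e
  omega

/-- A reflection is determined by its root. -/
theorem mul_simple_eq {z : M.Group} {i j : Fin D.rank}
    (hz : h.rootPerm z (h.simpleRoot j) = h.simpleRoot i) : z * M.simple j = M.simple i * z := by
  have := h.finite_group
  set a : Fin D.rank → ℤ := fun k => C.a k i with ha
  set c := h.good.rep z (fun k : Fin D.rank => C.a k j) with hc
  set g := z * M.simple j * z⁻¹ * M.simple i with hg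
  have hci : c i = 2 := by
    rw [← h.pair_simple c i, ← hz, hc, h.pair_rep, h.pair_simple]
    exact diag_eq_two h j
  have hform : ∀ v, h.good.rep g v = v + v i • (c - a) := by
    intro v
    set u := h.good.rep (M.simple i) v with hu
    have h1 : h.good.rep g v = h.good.rep z (h.good.rep (M.simple j) (h.good.rep z⁻¹ u)) := by
      simp only [hg, map_mul, Module.End.mul_apply, hu]
    have h2 : (h.good.rep z⁻¹ u) j = u i := by
      rw [← h.pair_simple (h.good.rep z⁻¹ u) j, ← h.pair_symm, hz, h.pair_simple]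
    have h3 : h.good.rep z (h.good.rep z⁻¹ u) = u := by
      rw [← Module.End.mul_apply, ← map_mul, mul_inv_cancel, map_one, Module.End.one_apply]
    have h4 : u i = -v i := by
      rw [hu, rep_simple_apply h, Pi.sub_apply, Pi.smul_apply, diag_eq_two h]
      simp; ring
    rw [h1, rep_simple_apply h j, map_sub, map_smul, h3, h2, ← hc, h4, hu, rep_simple_apply h i,
      ← ha]
    simp only [smul_sub, neg_smul, sub_neg_eq_add]
    abel
  have hd : (c - a) i = 0 := by simp [hci, ha, diag_eq_two h]
  have hpow : ∀ n : ℕ, h.good.rep (g ^ n) (Pi.single i 1) = Pi.single i 1 + n • (c - a) := by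
    intro n
    induction n with
    | zero => simp
    | succ n ih =>
      rw [pow_succ', map_mul, Module.End.mul_apply, ih, hform, Pi.add_apply, Pi.smul_apply, hd,
        smul_zero, add_zero, Pi.single_eq_same, one_smul, succ_nsmul, add_assoc]
  have hn := (isOfFinOrder_of_finite g).orderOf_pos
  have hd0 : c - a = 0 := by
    have := hpow (orderOf g)
    rw [pow_orderOf_eq_one, map_one, Module.End.one_apply, left_eq_add] at this
    funext k
    have hk := congrFun this k
    simp only [Pi.smul_apply, nsmul_eq_mul, Pi.zero_apply, mul_eq_zero, Nat.cast_eq_zero] at hk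
    exact hk.resolve_left hn.ne'
  have hg1 : g = 1 := h.good.rep_injective (LinearMap.ext fun v => by
    rw [hform, hd0, smul_zero, add_zero, map_one, Module.End.one_apply])
  calc z * M.simple j = g * (M.simple i)⁻¹ * z := by rw [hg]; group
    _ = _ := by rw [hg1, one_mul, simple_inv]

/-- Coefficients outside `J` do not change under the parabolic subgroup of `J`. -/
theorem coeff_eq {J : Set (Fin D.rank)} {u : M.Group} (hu : u ∈ WJ M J) (r : Fin D.nroots)
    {k : Fin D.rank} (hk : k ∉ J) : corootAt D (h.rootPerm u r) k = corootAt D r k := by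
  refine closure_simple_induction (p := fun u => corootAt D (h.rootPerm u r) k = corootAt D r k)
    (by simp) (fun j hj v _ ih => ?_) hu
  rw [map_mul, Equiv.Perm.mul_apply, ← RootGood.pair_simple_coroot (D := D), h.pair_symm, simple_inv,
    rep_simple_apply h, Pi.single_eq_of_ne (fun e : j = k => hk (e ▸ hj)), zero_smul, sub_zero,
    RootGood.pair_simple_coroot, ih]

include h in
theorem pos_of_coeff_pos {r : Fin D.nroots} {k : Fin D.rank} (hk : 0 < corootAt D r k) : PosIdx r := by
  by_contra hn
  have h1 := (h.root_facts (h.negRoot r).2).2.2.2.2.2.1 k ((h.pos_negRoot r).2 hn)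
  have h2 := h.pair_neg (Pi.single k 1) r
  rw [RootGood.pair_simple_coroot, RootGood.pair_simple_coroot] at h2
  omega

/-- The roots supported in `J`. -/
def Supp (J : Set (Fin D.rank)) (r : Fin D.nroots) : Prop := ∀ k ∉ J, corootAt D r k = 0

theorem pos_of_not_supp {J : Set (Fin D.rank)} {u : M.Group} (hu : u ∈ WJ M J) {r : Fin D.nroots}
    (hr : PosIdx r) (hs : ¬ Supp J r) : PosIdx (h.rootPerm u r) := by
  simp only [Supp, not_forall] at hs
  obtain ⟨k, hk, hne⟩ := hs
  have h1 := (h.root_facts r.2).2.2.2.2.2.1 k hr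
  refine pos_of_coeff_pos h (k := k) ?_
  rw [coeff_eq h hu r hk]
  omega

theorem supp_apply {J : Set (Fin D.rank)} {u : M.Group} (hu : u ∈ WJ M J) {r : Fin D.nroots} :
    Supp J (h.rootPerm u r) ↔ Supp J r :=
  forall₂_congr fun k hk => by rw [coeff_eq h hu r hk]

theorem pos_of_minR {J : Set (Fin D.rank)} {w : M.Group} (hw : MinR h J w) {r : Fin D.nroots}
    (hr : PosIdx r) (hs : Supp J r) : PosIdx (h.rootPerm w r) :=
  h.pos_of_pos_on_simples hr fun k hk => hw k (by_contra fun hkJ => hk (hs k hkJ))

theorem rootPerm_inv_apply (u : M.Group) (r : Fin D.nroots) :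
    h.rootPerm u (h.rootPerm u⁻¹ r) = r := by
  rw [← Equiv.Perm.mul_apply, ← map_mul, mul_inv_cancel, map_one, Equiv.Perm.one_apply]

theorem rootPerm_apply_inv (u : M.Group) (r : Fin D.nroots) :
    h.rootPerm u⁻¹ (h.rootPerm u r) = r := by
  rw [← Equiv.Perm.mul_apply, ← map_mul, inv_mul_cancel, map_one, Equiv.Perm.one_apply]

include h in
/-- Lengths add on a minimal coset representative. -/
theorem length_mul {J : Set (Fin D.rank)} {w u : M.Group} (hw : MinR h J w) (hu : u ∈ WJ M J) :
    M.toCoxeterSystem.length (w * u) = M.toCoxeterSystem.length w + M.toCoxeterSystem.length u := by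
  classical
  simp only [h.length_eq_card_invSet]
  have hout : ∀ x ∈ h.invSet w, ¬ Supp J x := fun x hx hs =>
    (h.mem_invSet.1 hx).2 (pos_of_minR h hw (h.mem_invSet.1 hx).1 hs)
  have e : h.invSet (w * u) = h.invSet u ∪ (h.invSet w).image (h.rootPerm u⁻¹) := by
    ext r
    simp only [Finset.mem_union, Finset.mem_image, h.mem_invSet, map_mul, Equiv.Perm.mul_apply]
    constructor
    · rintro ⟨hr, hn⟩
      by_cases hu' : PosIdx (h.rootPerm u r)
      · exact Or.inr ⟨h.rootPerm u r, ⟨hu', hn⟩, rootPerm_apply_inv h u r⟩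
      · exact Or.inl ⟨hr, hu'⟩
    · rintro (⟨hr, hn⟩ | ⟨x, hx, rfl⟩)
      · refine ⟨hr, fun hp => ?_⟩
        have hs : Supp J r := by_contra fun hs => hn (pos_of_not_supp h hu hr hs)
        have hs' : Supp J (h.negRoot (h.rootPerm u r)) := fun k hk => by
          rw [← RootGood.pair_simple_coroot, h.pair_neg, RootGood.pair_simple_coroot, (supp_apply h hu).2 hs k hk,
            neg_zero]
        have := pos_of_minR h hw ((h.pos_negRoot _).2 hn) hs'
        rw [h.rootPerm_neg] at this
        exact (h.pos_negRoot _).1 this hp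
      · exact ⟨pos_of_not_supp h (inv_mem hu) hx.1 (hout x (h.mem_invSet.2 hx)),
          by rw [rootPerm_inv_apply h]; exact hx.2⟩
  rw [e, Finset.card_union_of_disjoint, Finset.card_image_of_injective _ (Equiv.injective _), add_comm]
  rw [Finset.disjoint_left]
  intro r hr hr'
  obtain ⟨x, hx, rfl⟩ := Finset.mem_image.1 hr'
  have := (h.mem_invSet.1 hr).2
  rw [rootPerm_inv_apply h] at this
  exact this (h.mem_invSet.1 hx).1

include h in
theorem exists_minR (J : Set (Fin D.rank)) (w : M.Group) :
    ∃ v u, MinR h J v ∧ u ∈ WJ M J ∧ w = v * u := by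
  classical
  obtain ⟨v, ⟨u, hu, rfl⟩, hmin⟩ :=
    exists_minimal_of_wellFoundedLT (α := ℕ) (fun n => ∃ u ∈ WJ M J, M.toCoxeterSystem.length (w * u) = n)
      ⟨_, 1, one_mem _, rfl⟩
  refine ⟨w * u, u⁻¹, fun j hj => ?_, inv_mem hu, by group⟩
  by_contra hn
  have hlt := (h.length_mul_simple_lt_iff (w * u) j).2 hn
  have := hmin ⟨u * M.simple j, mul_mem hu (simple_mem_WJ hj), by rw [← mul_assoc]⟩ hlt.le
  omega

include h in
theorem minR_unique {J : Set (Fin D.rank)} {w w' : M.Group} (hw : MinR h J w) (hw' : MinR h J w')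
    (hmem : w⁻¹ * w' ∈ WJ M J) : w = w' := by
  have h1 := length_mul h hw hmem
  have h2 := length_mul h hw' (inv_mem hmem)
  rw [mul_inv_cancel_left] at h1
  rw [mul_inv_rev, inv_inv, mul_inv_cancel_left] at h2
  have h0 : M.toCoxeterSystem.length (w⁻¹ * w') = 0 := by omega
  exact inv_mul_eq_one.1 (M.toCoxeterSystem.length_eq_zero_iff.1 h0)

include h in
theorem exists_dMin (K J : Set (Fin D.rank)) (w : M.Group) :
    ∃ z u v, DMin h K J z ∧ u ∈ WJ M K ∧ v ∈ WJ M J ∧ w = u * z * v := by
  classical
  obtain ⟨z, ⟨u, hu, v, hv, rfl⟩, hmin⟩ := exists_minimal_of_wellFoundedLT (α := ℕ)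
    (fun n => ∃ u ∈ WJ M K, ∃ v ∈ WJ M J, M.toCoxeterSystem.length (u * w * v) = n)
    ⟨_, 1, one_mem _, 1, one_mem _, rfl⟩
  refine ⟨u * w * v, u⁻¹, v⁻¹, ⟨fun j hj => ?_, fun k hk => ?_⟩, inv_mem hu, inv_mem hv, by group⟩
  · by_contra hn
    have hlt := (h.length_mul_simple_lt_iff (u * w * v) j).2 hn
    have := hmin ⟨u, hu, v * M.simple j, mul_mem hv (simple_mem_WJ hj), by rw [← mul_assoc]⟩ hlt.le
    omega
  · by_contra hn
    have hlt := (h.length_mul_simple_lt_iff (u * w * v)⁻¹ k).2 hn
    have e : M.toCoxeterSystem.length ((u * w * v)⁻¹ * M.simple k) =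
        M.toCoxeterSystem.length (M.simple k * u * w * v) := by
      rw [← M.toCoxeterSystem.length_inv]
      congr 1
      simp only [mul_inv_rev, inv_inv, simple_inv, mul_assoc]
    rw [e, M.toCoxeterSystem.length_inv] at hlt
    have := hmin ⟨M.simple k * u, mul_mem (simple_mem_WJ hk) hu, v, hv, rfl⟩ hlt.le
    omega

include h in
theorem dMin_unique {K J : Set (Fin D.rank)} {z w u v : M.Group} (hz : DMin h K J z)
    (hw : DMin h K J w) (hu : u ∈ WJ M K) (hv : v ∈ WJ M J) (e : z = u * w * v) : z = w := by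
  have key : ∃ u' ∈ WJ M K, ∃ v' ∈ WJ M J, u * w = u' * w * v' ∧ MinR h J (u' * w) := by
    refine closure_simple_induction
      (p := fun u => ∃ u' ∈ WJ M K, ∃ v' ∈ WJ M J, u * w = u' * w * v' ∧ MinR h J (u' * w)) ?_ ?_ hu
    · exact ⟨1, one_mem _, 1, one_mem _, by simp, by simpa using hw.1⟩
    · rintro k hk u₀ - ⟨u', hu', v', hv', e', hmin⟩
      by_cases hk' : MinR h J (M.simple k * (u' * w))
      · exact ⟨M.simple k * u', mul_mem (simple_mem_WJ hk) hu', v', hv',
          by simp only [mul_assoc, e'], by rwa [mul_assoc]⟩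
      · simp only [MinR, not_forall] at hk'
        obtain ⟨j, hj, hneg⟩ := hk'
        rw [map_mul, Equiv.Perm.mul_apply] at hneg
        have hx : h.rootPerm (u' * w) (h.simpleRoot j) = h.simpleRoot k :=
          by_contra fun hne => hneg (h.pos_simple_apply hne (hmin j hj))
        refine ⟨u', hu', M.simple j * v', mul_mem (simple_mem_WJ hj) hv', ?_, hmin⟩
        rw [← mul_assoc (u' * w), mul_simple_eq h hx, mul_assoc (M.simple k) u₀, e']
        simp only [mul_assoc]
  obtain ⟨u', hu', v', hv', e', hmin⟩ := key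
  have h1 : u' * w = z := minR_unique h hmin hz.1 (by
    rw [e, e']
    simp only [mul_assoc]
    rw [show (u' * w)⁻¹ * (u' * (w * (v' * v))) = v' * v by group]
    exact mul_mem hv' hv)
  have h2 : w⁻¹ = z⁻¹ := minR_unique h hw.2 hz.2 (by
    rw [← h1, show w⁻¹⁻¹ * (u' * w)⁻¹ = u'⁻¹ by group]
    exact inv_mem hu')
  exact (inv_inj.1 h2).symm

theorem allDesc_neg {w : M.Group} (hw : AllDesc h w) {r : Fin D.nroots} (hr : PosIdx r) :
    ¬ PosIdx (h.rootPerm w r) := by
  intro hpos
  have hneg : 0 < corootHt D (h.rootPerm w r) := hpos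
  rw [← RootGood.pair_one, h.pair_symm] at hneg
  refine absurd hneg (not_lt.mpr (Finset.sum_nonpos fun k _ => ?_))
  refine mul_nonpos_of_nonpos_of_nonneg ?_ ((h.root_facts r.2).2.2.2.2.2.1 k hr)
  rw [← h.pair_simple (h.good.rep w⁻¹ 1) k, ← h.pair_symm, RootGood.pair_one]
  exact not_lt.mp (hw k)

include h in
theorem existsUnique_allDesc : ∃! w : M.Group, AllDesc h w := by
  obtain ⟨w₀, hw₀⟩ := h.exists_longest
  refine ⟨w₀, fun i => hw₀ _ (h.pos_simpleRoot i), fun w hw => ?_⟩
  refine mul_inv_eq_one.1 (h.eq_one_of_invSet_empty ?_)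
  ext r
  simp only [h.mem_invSet, Finset.notMem_empty, iff_false, not_and, not_not]
  intro hr
  have hx : ¬ PosIdx (h.rootPerm w₀⁻¹ r) := fun hx => by
    have := hw₀ _ hx
    rw [rootPerm_inv_apply h] at this
    exact this hr
  have := allDesc_neg h hw ((h.pos_negRoot _).2 hx)
  rw [h.rootPerm_neg, h.pos_negRoot, not_not] at this
  rwa [map_mul, Equiv.Perm.mul_apply]

theorem allDesc_inv {w : M.Group} (hw : AllDesc h w) : AllDesc h w⁻¹ := by
  intro i hpos
  have := allDesc_neg h hw hpos
  rw [rootPerm_inv_apply h] at this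
  exact this (h.pos_simpleRoot i)

/-- The alternating sum over the subsets avoiding the descents of `w`. -/
theorem sum_minR {A : Type*} [CommRing A] (w : M.Group) (x : A)
    [∀ J : Finset (Fin D.rank), Decidable (MinR h (↑J : Set (Fin D.rank)) w)] [Decidable (AllDesc h w)] :
    ∑ J : Finset (Fin D.rank), (-1 : A) ^ J.card * (if MinR h (↑J : Set (Fin D.rank)) w then x else 0) =
      if AllDesc h w then x else 0 := by
  classical
  have e : ∀ J : Finset (Fin D.rank), MinR h (↑J : Set (Fin D.rank)) w ↔
      J ∈ (Finset.univ.filter fun i => PosIdx (h.rootPerm w (h.simpleRoot i))).powerset := by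
    simp [MinR, Finset.subset_iff]
  simp only [mul_ite, mul_zero, e]
  rw [← Finset.sum_filter, Finset.filter_mem_eq_inter, Finset.univ_inter, ← Finset.sum_mul]
  have h1 := congrArg (fun z : ℤ => (z : A))
    (Finset.sum_powerset_neg_one_pow_card (x := Finset.univ.filter fun i => PosIdx (h.rootPerm w (h.simpleRoot i))))
  push_cast at h1
  rw [h1]
  have e2 : (Finset.univ.filter fun i => PosIdx (h.rootPerm w (h.simpleRoot i))) = ∅ ↔ AllDesc h w := by
    simp [AllDesc, Finset.filter_eq_empty_iff]
  simp only [e2]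
  split_ifs <;> simp

end CfsgLib.ChevSteinberg
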