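import Cfsg.Agent.Chevalley.Bruhat
import Cfsg.Agent.ChevSteinberg.WeylCosets
import Cfsg.Prelude.Def_ParabolicCharacters

/-!
Standard parabolic subgroups of a Chevalley group as unions of Bruhat cells, and their cosets.
-/

set_option autoImplicit false
set_option linter.unusedSectionVars false

namespace CfsgLib.ChevSteinberg

open Cfsg.Lie CfsgLib.Chevalley
open scoped MatrixGroups

variable {D : ChevalleyDatum} {C : Weyl.Cert D.rank} {M : CoxeterMatrix (Fin D.rank)}
  {R : Weyl.RootTable} {F : Type*} [Field F]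

/-- The parabolic subgroup attached to a set of fundamental roots. -/
def par (hW : GoodWeyl D) (F : Type*) [Field F] (J : Set (Fin D.rank)) : Subgroup (GL D.Idx F) :=
  Subgroup.closure ((D.borelSubgroup F : Set (GL D.Idx F)) ∪ nR hW '' J)

variable (hW : GoodWeyl D) (h : Weyl.RootGood C M R)

theorem borel_le_par (J : Set (Fin D.rank)) : D.borelSubgroup F ≤ par hW F J :=
  fun _ hb => Subgroup.subset_closure (Or.inl hb)

theorem nR_mem_par {J : Set (Fin D.rank)} {j : Fin D.rank} (hj : j ∈ J) :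
    (nR hW j : GL D.Idx F) ∈ par hW F J :=
  Subgroup.subset_closure (Or.inr ⟨j, hj, rfl⟩)

theorem parabolicSubgroup_eq (J : Finset (Fin D.rank)) :
    D.parabolicSubgroup F (↑(J.map Fin.valEmbedding) : Set ℕ) = par hW F (↑J : Set (Fin D.rank)) := by
  rw [ChevalleyDatum.parabolicSubgroup, par, Subgroup.closure_union, Subgroup.closure_eq]
  congr 2
  ext g
  constructor
  · rintro ⟨j, hj, hjr, e⟩
    obtain ⟨i, hi, rfl⟩ := Finset.mem_map.1 (Finset.mem_coe.1 hj)
    exact ⟨i, hi, Units.ext ((coe_nR hW i).trans e.symm)⟩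
  · rintro ⟨i, hi, rfl⟩
    exact ⟨i, Finset.mem_coe.2 (Finset.mem_map.2 ⟨i, hi, rfl⟩), i.isLt, coe_nR hW i⟩

theorem par_le_group (J : Set (Fin D.rank)) : par hW F J ≤ D.group F := by
  refine (Subgroup.closure_le _).2 (Set.union_subset (borel_le_group hW) ?_)
  rintro _ ⟨i, -, rfl⟩
  exact nR_mem_group hW i

/-- Left translation by a parabolic subgroup stays inside a left stable union of cells. -/
theorem par_mul_union {K : Set (Fin D.rank)} {X : Set M.Group}
    (hX : ∀ i ∈ K, ∀ w ∈ X, M.simple i * w ∈ X) {p g : GL D.Idx F} (hp : p ∈ par hW F K)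
    (hg : ∃ w ∈ X, g ∈ cell hW h F w) : ∃ w ∈ X, p * g ∈ cell hW h F w := by
  revert g
  refine Subgroup.closure_induction_left (p := fun p _ => ∀ {g : GL D.Idx F},
    (∃ w ∈ X, g ∈ cell hW h F w) → ∃ w ∈ X, p * g ∈ cell hW h F w) ?_ ?_ ?_ hp
  · intro g hg
    simpa using hg
  · rintro x hx y - ih g hg
    obtain ⟨w, hw, hyg⟩ := ih hg
    rw [mul_assoc]
    rcases hx with hx | ⟨i, hi, rfl⟩
    · exact ⟨w, hw, borel_mul_mem_cell hW h hx hyg⟩
    · rcases nR_mul_cell hW h i hyg with h1 | h1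
      · exact ⟨_, hX i hi w hw, h1⟩
      · exact ⟨w, hw, h1⟩
  · rintro x hx y - ih g hg
    obtain ⟨w, hw, hyg⟩ := ih hg
    rw [mul_assoc]
    rcases hx with hx | ⟨i, hi, rfl⟩
    · exact ⟨w, hw, borel_mul_mem_cell hW h (inv_mem hx) hyg⟩
    · rcases nR_inv_mul_cell hW h i hyg with h1 | h1
      · exact ⟨_, hX i hi w hw, h1⟩
      · exact ⟨w, hw, h1⟩

theorem par_mul_cell {K : Set (Fin D.rank)} {p g : GL D.Idx F} {w : M.Group} (hp : p ∈ par hW F K)
    (hg : g ∈ cell hW h F w) : ∃ u ∈ WJ M K, p * g ∈ cell hW h F (u * w) := by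
  obtain ⟨x, ⟨u, hu, rfl⟩, hx⟩ := par_mul_union hW h (X := {x | ∃ u ∈ WJ M K, x = u * w})
    (by rintro i hi _ ⟨u, hu, rfl⟩
        exact ⟨_, mul_mem (simple_mem_WJ hi) hu, (mul_assoc _ _ _).symm⟩)
    hp ⟨w, ⟨1, one_mem _, (one_mul _).symm⟩, hg⟩
  exact ⟨u, hu, hx⟩

theorem inv_mem_cell {w : M.Group} {g : GL D.Idx F} (hg : g ∈ cell hW h F w) :
    g⁻¹ ∈ cell hW h F w⁻¹ := by
  obtain ⟨b, hb, b', hb', rfl⟩ := hg
  obtain ⟨k, hk, e⟩ := exists_eq_nW_mul hW h
    (⟨nW hW h F w, nW_mem hW h w⟩ : ↥(D.monomialSubgroup F))⁻¹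
  rw [map_inv, weylHom_nW] at e
  refine ⟨b'⁻¹, inv_mem hb', k * b⁻¹, mul_mem (diag_le_borel D hk) (inv_mem hb), ?_⟩
  change (nW hW h F w)⁻¹ = _ at e
  rw [show (b * nW hW h F w * b')⁻¹ = b'⁻¹ * (nW hW h F w)⁻¹ * b⁻¹ by group, e]
  group

theorem cell_mul_par {J : Set (Fin D.rank)} {p g : GL D.Idx F} {w : M.Group} (hp : p ∈ par hW F J)
    (hg : g ∈ cell hW h F w) : ∃ v ∈ WJ M J, g * p ∈ cell hW h F (w * v) := by
  obtain ⟨u, hu, hx⟩ := par_mul_cell hW h (inv_mem hp) (inv_mem_cell hW h hg)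
  have := inv_mem_cell hW h hx
  simp only [mul_inv_rev, inv_inv] at this
  exact ⟨u⁻¹, inv_mem hu, this⟩

theorem exists_nW_mul (v w : M.Group) :
    ∃ k ∈ D.diagonalSubgroup F, nW hW h F v * nW hW h F w = nW hW h F (v * w) * k := by
  have := exists_eq_nW_mul hW h
    ((⟨nW hW h F v, nW_mem hW h v⟩ : ↥(D.monomialSubgroup F)) * ⟨nW hW h F w, nW_mem hW h w⟩)
  rwa [map_mul, weylHom_nW, weylHom_nW] at this

theorem nW_mem_par {J : Set (Fin D.rank)} {w : M.Group} (hw : w ∈ WJ M J) :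
    nW hW h F w ∈ par hW F J := by
  refine closure_simple_induction (p := fun w => nW hW h F w ∈ par hW F J) ?_ ?_ hw
  · have := nW_mem_cell (F := F) hW h 1
    rw [cell_one hW h] at this
    exact borel_le_par hW J this
  · intro j hj v _ ih
    obtain ⟨k, hk, e⟩ := exists_nR_mul_nW (F := F) hW h j v
    rw [← eq_mul_inv_iff_mul_eq.2 e.symm |>.symm]
    exact mul_mem (mul_mem (nR_mem_par hW hj) ih) (borel_le_par hW J (diag_le_borel D (inv_mem hk)))

/-- A parabolic subgroup is the union of the cells of its Weyl group. -/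
theorem mem_par_iff {J : Set (Fin D.rank)} {g : GL D.Idx F} :
    g ∈ par hW F J ↔ ∃ w ∈ WJ M J, g ∈ cell hW h F w := by
  constructor
  · intro hg
    have h1 : (1 : GL D.Idx F) ∈ cell hW h F 1 := by
      rw [cell_one hW h]
      exact one_mem _
    obtain ⟨u, hu, hx⟩ := par_mul_cell hW h hg h1
    rw [mul_one, mul_one] at hx
    exact ⟨u, hu, hx⟩
  · rintro ⟨w, hw, b, hb, b', hb', rfl⟩
    exact mul_mem (mul_mem (borel_le_par hW J hb) (nW_mem_par hW h hw)) (borel_le_par hW J hb')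

/-- Products of cells whose lengths add. -/
theorem cell_mul_cell {w v : M.Group}
    (hl : M.toCoxeterSystem.length (w * v) = M.toCoxeterSystem.length w + M.toCoxeterSystem.length v)
    {g p : GL D.Idx F} (hg : g ∈ cell hW h F w) (hp : p ∈ cell hW h F v) :
    g * p ∈ cell hW h F (w * v) := by
  induction hn : M.toCoxeterSystem.length w generalizing w g p with
  | zero =>
    obtain rfl := M.toCoxeterSystem.length_eq_zero_iff.1 hn
    rw [cell_one hW h] at hg
    rw [one_mul]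
    exact borel_mul_mem_cell hW h hg hp
  | succ n ih =>
    have hw1 : w ≠ 1 := fun e => by subst e; simp at hn
    obtain ⟨i, hi⟩ := M.toCoxeterSystem.exists_leftDescent_of_ne_one hw1
    rw [CoxeterSystem.isLeftDescent_iff, CoxeterMatrix.toCoxeterSystem_simple] at hi
    obtain ⟨u, rfl⟩ : ∃ u, w = M.simple i * u :=
      ⟨M.simple i * w, by rw [← mul_assoc, simple_sq, one_mul]⟩
    rw [← mul_assoc, simple_sq, one_mul] at hi
    have h2 := M.toCoxeterSystem.length_mul_le u v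
    have h3 := M.toCoxeterSystem.length_simple_mul (u * v) i
    rw [CoxeterMatrix.toCoxeterSystem_simple, ← mul_assoc] at h3
    have hup : GoesUp hW h i (u * v) := (goesUp_iff hW h i _).2 (by rw [← mul_assoc]; omega)
    obtain ⟨b, hb, b', hb', rfl⟩ := hg
    obtain ⟨k, hk, e⟩ := exists_nR_mul_nW (F := F) hW h i u
    have hy : nW hW h F u * (k⁻¹ * b' * p) ∈ cell hW h F (u * v) :=
      ih (by omega) (nW_mem_cell hW h u)
        (borel_mul_mem_cell hW h (mul_mem (inv_mem (diag_le_borel D hk)) hb') hp) (by omega)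
    obtain ⟨c, hc, c', hc', e'⟩ := hy
    rw [show b * nW hW h F (M.simple i * u) * b' * p =
      b * (nW hW h F (M.simple i * u) * k * (k⁻¹ * b' * p)) by group, ← e, mul_assoc (nR hW i), ← e',
      mul_assoc (M.simple i)]
    refine borel_mul_mem_cell hW h hb ?_
    rw [show nR hW i * (c * nW hW h F (u * v) * c') = nR hW i * c * nW hW h F (u * v) * c' by group]
    exact cell_mul_borel_mem hW h (nR_mul_nW_up hW h hup hc) hc'

/-- Two elements of minimal cells in one coset of a parabolic subgroup. -/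
theorem eq_of_par {J : Set (Fin D.rank)} {w w' : M.Group} (hw : MinR h J w) (hw' : MinR h J w')
    {g g' : GL D.Idx F} (hg : g ∈ cell hW h F w) (hg' : g' ∈ cell hW h F w')
    (hp : g⁻¹ * g' ∈ par hW F J) : w = w' ∧ g⁻¹ * g' ∈ D.borelSubgroup F := by
  obtain ⟨v, hv, hc⟩ := (mem_par_iff hW h).1 hp
  have h1 := cell_mul_cell hW h (length_mul h hw hv) hg hc
  rw [mul_inv_cancel_left] at h1
  have h2 := cell_eq_of_mem hW h hg' h1
  have h3 : w = w' := minR_unique h hw hw' (by rw [h2, inv_mul_cancel_left]; exact hv)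
  refine ⟨h3, ?_⟩
  rw [← h3, left_eq_mul] at h2
  subst h2
  rwa [cell_one hW h] at hc

/-- The cosets of a parabolic subgroup that lie in the Chevalley group. -/
def img (J : Set (Fin D.rank)) : Set (GL D.Idx F ⧸ par hW F J) :=
  QuotientGroup.mk '' (D.group F : Set (GL D.Idx F))

theorem exists_mem_img {J : Set (Fin D.rank)} {g : GL D.Idx F} (hg : g ∈ D.group F) :
    ∃ w, MinR h J w ∧ ∃ g' ∈ cell hW h F w,
      (g' : GL D.Idx F ⧸ par hW F J) = (g : GL D.Idx F ⧸ par hW F J) := by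
  obtain ⟨x, hx⟩ := exists_mem_cell hW h hg
  obtain ⟨w, u, hw, hu, rfl⟩ := exists_minR h J x
  obtain ⟨b, hb, b', hb', rfl⟩ := hx
  obtain ⟨k, hk, e⟩ := exists_nW_mul (F := F) hW h w u
  refine ⟨w, hw, b * nW hW h F w, ⟨b, hb, 1, one_mem _, mul_one _⟩, QuotientGroup.eq.2 ?_⟩
  have e1 : nW hW h F (w * u) = nW hW h F w * nW hW h F u * k⁻¹ := eq_mul_inv_of_mul_eq e.symm
  rw [show (b * nW hW h F w)⁻¹ * (b * nW hW h F (w * u) * b') =
    (nW hW h F w)⁻¹ * nW hW h F (w * u) * b' by group, e1]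
  rw [show (nW hW h F w)⁻¹ * (nW hW h F w * nW hW h F u * k⁻¹) * b' = nW hW h F u * k⁻¹ * b' by group]
  exact mul_mem (mul_mem (nW_mem_par hW h hu) (borel_le_par hW J (diag_le_borel D (inv_mem hk))))
    (borel_le_par hW J hb')

/-- The coset of a parabolic subgroup containing a coset of the Borel subgroup. -/
def toPar (J : Set (Fin D.rank)) :
    GL D.Idx F ⧸ D.borelSubgroup F → GL D.Idx F ⧸ par hW F J :=
  fun x => Quotient.liftOn' x QuotientGroup.mk fun a b hab =>
    QuotientGroup.eq.2 (borel_le_par hW J (QuotientGroup.leftRel_apply.1 hab))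

theorem smul_toPar (J : Set (Fin D.rank)) (g : GL D.Idx F) (x : GL D.Idx F ⧸ D.borelSubgroup F) :
    toPar hW J (g • x) = g • toPar hW J x := by
  induction x using QuotientGroup.induction_on with | _ a => rfl

theorem toPar_injOn {J : Set (Fin D.rank)} {w w' : M.Group} (hw : MinR h J w) (hw' : MinR h J w')
    {x x' : GL D.Idx F ⧸ D.borelSubgroup F} (hx : x ∈ cellQ hW h F w) (hx' : x' ∈ cellQ hW h F w')
    (e : toPar hW J x = toPar hW J x') : w = w' ∧ x = x' := by
  obtain ⟨a, ha, rfl⟩ := hx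
  obtain ⟨a', ha', rfl⟩ := hx'
  obtain ⟨h1, h2⟩ := eq_of_par hW h hw hw' ha ha' (QuotientGroup.eq.1 e)
  exact ⟨h1, QuotientGroup.eq.2 h2⟩

theorem smul_mem_cellQ {b : GL D.Idx F} (hb : b ∈ D.borelSubgroup F) {w : M.Group}
    {x : GL D.Idx F ⧸ D.borelSubgroup F} (hx : x ∈ cellQ hW h F w) : b • x ∈ cellQ hW h F w := by
  obtain ⟨a, ha, rfl⟩ := hx
  exact ⟨b * a, borel_mul_mem_cell hW h hb ha, rfl⟩

/-- Fixed cosets of an element of the Borel subgroup, cell by cell. -/
theorem card_fixed_img [Fintype M.Group] [Finite F] {J : Set (Fin D.rank)}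
    [DecidablePred (MinR h J)] {b : GL D.Idx F} (hb : b ∈ D.borelSubgroup F) :
    Nat.card {x : img (F := F) hW J // b • (x : GL D.Idx F ⧸ par hW F J) = x} =
      ∑ w : M.Group, if MinR h J w then Nat.card {x : cellQ hW h F w // b • (x : GL D.Idx F ⧸ D.borelSubgroup F) = x}
        else 0 := by
  classical
  have : ∀ w : M.Group, Finite (cellQ hW h F w) := fun w => Nat.finite_of_card_ne_zero (by
    rw [natCard_cellQ hW h w]
    exact pow_ne_zero _ Nat.card_pos.ne')
  rw [← Finset.sum_filter, ← Finset.sum_coe_sort, ← Nat.card_sigma]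
  symm
  refine Nat.card_congr (Equiv.ofBijective
    (fun p => ⟨⟨toPar hW J p.2.1.1, by
      obtain ⟨a, ha, e⟩ := p.2.1.2
      exact ⟨a, cell_subset_group hW h ha, by rw [← e]; rfl⟩⟩, by
        show b • toPar hW J _ = _
        rw [← smul_toPar, p.2.2]⟩) ⟨?_, ?_⟩)
  · rintro ⟨⟨w, hw⟩, ⟨x, hx⟩, hfx⟩ ⟨⟨w', hw'⟩, ⟨x', hx'⟩, hfx'⟩ e
    obtain ⟨rfl, rfl⟩ := toPar_injOn hW h (Finset.mem_filter.1 hw).2 (Finset.mem_filter.1 hw').2 hx hx'
      (congrArg (fun z => z.1.1) e)
    rfl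
  · rintro ⟨⟨_, g, hg, rfl⟩, hfix⟩
    obtain ⟨w, hw, g', hg', e⟩ := exists_mem_img hW h (J := J) hg
    have hxc : ((g' : GL D.Idx F) : GL D.Idx F ⧸ D.borelSubgroup F) ∈ cellQ hW h F w := ⟨g', hg', rfl⟩
    refine ⟨⟨⟨w, by simpa using hw⟩, ⟨_, hxc⟩, ?_⟩, Subtype.ext (Subtype.ext e)⟩
    refine (toPar_injOn (J := J) hW h hw hw (smul_mem_cellQ hW h hb hxc) hxc ?_).2
    rw [smul_toPar]
    exact ((congrArg (b • ·) e).trans hfix).trans e.symm

theorem fixedPointCharacter_subgroupOf (J : Set (Fin D.rank)) (g : ↥(D.group F)) :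
    Cfsg.fixedPointCharacter ((par hW F J).subgroupOf (D.group F)) g =
      (Nat.card {x : img (F := F) hW J // (g : GL D.Idx F) • (x : GL D.Idx F ⧸ par hW F J) = x} : ℂ) := by
  rw [Cfsg.fixedPointCharacter]
  congr 1
  let f : ↥(D.group F) ⧸ (par hW F J).subgroupOf (D.group F) → GL D.Idx F ⧸ par hW F J :=
    fun x => Quotient.liftOn' x (fun a => ((a : GL D.Idx F) : GL D.Idx F ⧸ par hW F J)) fun a b hab =>
      QuotientGroup.eq.2 (by
        simpa using Subgroup.mem_subgroupOf.1 (QuotientGroup.leftRel_apply.1 hab))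
  have hf : Function.Injective f := by
    intro x y
    induction x using QuotientGroup.induction_on with | _ a => ?_
    induction y using QuotientGroup.induction_on with | _ c => ?_
    intro e
    exact QuotientGroup.eq.2 (Subgroup.mem_subgroupOf.2 (by simpa using QuotientGroup.eq.1 e))
  have hsm : ∀ x, f (g • x) = (g : GL D.Idx F) • f x := by
    intro x
    induction x using QuotientGroup.induction_on with | _ a => rfl
  have hmem : ∀ x, f x ∈ img (F := F) hW J := by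
    intro x
    induction x using QuotientGroup.induction_on with | _ a => exact ⟨a, a.2, rfl⟩
  refine Nat.card_congr (Equiv.ofBijective
    (fun x => ⟨⟨f x.1, hmem _⟩, by show _ • f x.1 = f x.1; rw [← hsm]; exact congrArg f x.2⟩) ⟨?_, ?_⟩)
  · intro x y e
    exact Subtype.ext (hf (congrArg (fun z => z.1.1) e))
  · rintro ⟨⟨_, a, ha, rfl⟩, hfix⟩
    refine ⟨⟨((⟨a, ha⟩ : ↥(D.group F)) : ↥(D.group F) ⧸ _), hf ?_⟩, rfl⟩
    rw [hsm]
    exact hfix

end CfsgLib.ChevSteinberg
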