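import Cfsg.Agent.Chevalley.WeylData
import Cfsg.Agent.Weyl.RootB2
import Cfsg.Agent.Weyl.RootG2
import Cfsg.Agent.Weyl.RootD4
import Cfsg.Agent.Weyl.RootF4
import Cfsg.Agent.Weyl.RootE6
import Cfsg.Agent.Weyl.RootE7
import Cfsg.Agent.Weyl.RootE8

/-!
A root table for each of the seven tabulated data.
-/

set_option autoImplicit false

namespace CfsgLib.ChevSteinberg

open Cfsg.Lie

theorem exists_rootGood {D : ChevalleyDatum}
    (hD : D ∈ [chevG2, chevB2, chevD4, chevF4, chevE6, chevE7, chevE8]) :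
    ∃ (C : Weyl.Cert D.rank) (M : CoxeterMatrix (Fin D.rank)) (R : Weyl.RootTable),
      Weyl.RootGood C M R := by
  simp only [List.mem_cons, List.not_mem_nil, or_false] at hD
  rcases hD with rfl | rfl | rfl | rfl | rfl | rfl | rfl
  exacts [⟨_, _, _, Weyl.rootG2_good⟩, ⟨_, _, _, Weyl.rootB2_good⟩, ⟨_, _, _, Weyl.rootD4_good⟩,
    ⟨_, _, _, Weyl.rootF4_good⟩, ⟨_, _, _, Weyl.rootE6_good⟩, ⟨_, _, _, Weyl.rootE7_good⟩,
    ⟨_, _, _, Weyl.rootE8_good⟩]

end CfsgLib.ChevSteinberg
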