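import Cfsg.Agent.ChevSteinberg.Character
import Cfsg.Agent.ChevSteinberg.Data
import Cfsg.Agent.Chevalley.UnipotentMain
import Mathlib.GroupTheory.Sylow

/-!
Height grading of the positive unipotent subgroup and the exponent of the `p`-elements.
-/

set_option autoImplicit false
set_option linter.unusedSectionVars false

namespace CfsgLib.ChevSteinberg

open Cfsg.Lie CfsgLib.Chevalley
open scoped MatrixGroups

variable {D : ChevalleyDatum} {F : Type*} [Field F]

/-- `g - 1` raises twice the height by at least two. -/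
def Raises (g : Matrix D.Idx D.Idx F) : Prop :=
  ∀ a c, (g - 1) a c ≠ 0 → ht D c + 2 ≤ ht D a

theorem raises_one : Raises (D := D) (1 : Matrix D.Idx D.Idx F) := by
  intro a c h
  simp at h

theorem raises_mul {g g' : Matrix D.Idx D.Idx F} (hg : Raises g) (hg' : Raises g') : Raises (g * g') := by
  intro a c h
  rw [show g * g' - 1 = (g - 1) * (g' - 1) + (g - 1) + (g' - 1) by noncomm_ring] at h
  by_contra hn
  apply h
  simp only [Matrix.add_apply, Matrix.mul_apply]
  rw [Finset.sum_eq_zero fun x _ => ?_, zero_add]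
  · have h1 : (g - 1) a c = 0 := by_contra fun hh => hn (hg a c hh)
    have h2 : (g' - 1) a c = 0 := by_contra fun hh => hn (hg' a c hh)
    rw [h1, h2, add_zero]
  · by_contra hx
    have h1 := hg a x (left_ne_zero_of_mul hx)
    have h2 := hg' x c (right_ne_zero_of_mul hx)
    omega

theorem raises_xR (hD : Good D) {r : Root D} (hr : half D ≤ r) (t : F) : Raises (xR D F r t) := by
  intro a c h
  have h2 : 2 ≤ ht D (Sum.inr r) := by
    have := hD.onSide_two_le (b := false) (onSide_false_iff.2 hr)
    simpa [sgn] using this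
  rw [xR, Finset.sum_range_succ', pow_zero, one_smul] at h
  simp only [E_zero, Matrix.map_one (Int.cast : ℤ → F) Int.cast_zero Int.cast_one, add_sub_cancel_right,
    Matrix.sum_apply, Matrix.smul_apply, Matrix.map_apply] at h
  obtain ⟨k, -, hk⟩ := Finset.exists_ne_zero_of_sum_ne_zero h
  have hE : E D r (k + 1) a c ≠ 0 := fun h0 => hk (by simp [h0])
  rw [hD.ht_of_E_ne_zero r (k + 1) hE]
  push_cast
  nlinarith

theorem raises_pos (hD : Good D) {g : GL D.Idx F} (hg : g ∈ D.posUnipotent F) :
    Raises (g : Matrix D.Idx D.Idx F) := by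
  rw [posUnipotent_eq_rootGen hD, rootGen] at hg
  refine Subgroup.closure_induction_left (p := fun (g : GL D.Idx F) _ => Raises (g : Matrix D.Idx D.Idx F)) ?_ ?_ ?_ hg
  · simpa using raises_one
  · rintro x ⟨r, hr, t, rfl⟩ y - ih
    rw [Units.val_mul, coe_X]
    exact raises_mul (raises_xR hD hr t) ih
  · rintro x ⟨r, hr, t, rfl⟩ y - ih
    rw [X_inv, Units.val_mul, coe_X]
    exact raises_mul (raises_xR hD hr (-t)) ih

theorem sub_one_pow_of_raises {g : Matrix D.Idx D.Idx F} (hg : Raises g) {b : ℤ}
    (hb : ∀ a, -b ≤ ht D a ∧ ht D a ≤ b) {k : ℕ} (hk : b < k) : (g - 1) ^ k = 0 := by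
  have key : ∀ (n : ℕ) a c, ((g - 1) ^ n) a c ≠ 0 → ht D c + 2 * n ≤ ht D a := by
    intro n
    induction n with
    | zero =>
      intro a c h
      obtain rfl : a = c := by
        by_contra hne
        exact h (by simp [hne])
      simp
    | succ n ih =>
      intro a c h
      rw [pow_succ, Matrix.mul_apply] at h
      obtain ⟨x, -, hx⟩ := Finset.exists_ne_zero_of_sum_ne_zero h
      have h1 := ih a x (left_ne_zero_of_mul hx)
      have h2 := hg x c (right_ne_zero_of_mul hx)
      push_cast
      omega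
  ext a c
  by_contra hne
  have := key k a c hne
  have := hb a
  have := hb c
  omega

variable {C : Weyl.Cert D.rank} {M : CoxeterMatrix (Fin D.rank)} {R : Weyl.RootTable}

/-- Every `p`-element of the group is conjugate to an element of `U`. -/
theorem exists_conj_mem_pos [Finite F] (hW : GoodWeyl D) (h : Weyl.RootGood C M R) (p : ℕ) [Fact p.Prime]
    [CharP F p] (x : ↥(D.group F)) {j : ℕ} (hx : orderOf x = p ^ j) :
    ∃ g : ↥(D.group F), ((g * x * g⁻¹ : ↥(D.group F)) : GL D.Idx F) ∈ D.posUnipotent F := by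
  classical
  obtain ⟨n, hn, hd, hnd⟩ := pPart_group (F := F) hW h p
  have hp : p.Prime := Fact.out
  have hfac : (Nat.card ↥(D.group F)).factorization p = n := by
    have h1 := (hp.pow_dvd_iff_le_factorization Nat.card_pos.ne').1 hd
    have h2 : ¬ n + 1 ≤ _ := fun h2 => hnd ((hp.pow_dvd_iff_le_factorization Nat.card_pos.ne').2 h2)
    omega
  have hU : Nat.card ((D.posUnipotent F).subgroupOf (D.group F)) = p ^ (Nat.card ↥(D.group F)).factorization p := by
    rw [hfac, ← hn, Nat.card_congr (Subgroup.subgroupOfEquivOfLe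
      ((pos_le_borel D).trans (borel_le_group hW))).toEquiv, posUnipotent_eq hW.good, natCard_uGe hW.toGoodUni]
    rfl
  let P : Sylow p ↥(D.group F) := Sylow.ofCard _ hU
  have hz : IsPGroup p (Subgroup.zpowers x) := IsPGroup.of_card (n := j) (by rw [Nat.card_zpowers, hx])
  obtain ⟨Q, hQ⟩ := hz.exists_le_sylow
  obtain ⟨g, hg⟩ := MulAction.exists_smul_eq ↥(D.group F) Q P
  refine ⟨g, Subgroup.mem_subgroupOf.1 (show g * x * g⁻¹ ∈ (P : Subgroup ↥(D.group F)) from ?_)⟩
  rw [← hg]
  exact ⟨x, hQ (Subgroup.mem_zpowers x), rfl⟩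

end CfsgLib.ChevSteinberg
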